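import Groth.Agent.RegConLib.Nhd
import Groth.Agent.CanonRestrLib.Main
import Groth.Agent.SeesawLib.Ranks
import Groth.Agent.SeesawLib.Pulled
import Groth.Agent.CohCmpLib.StratIff
import Groth.Agent.S15539

/-!
# Canonical sheaves and flat base change
-/

set_option autoImplicit false
set_option linter.style.haveILetI false
set_option backward.isDefEq.respectTransparency false
set_option backward.isDefEq.respectTransparency.types false
set_option maxHeartbeats 1000000
universe u

open CategoryTheory CategoryTheory.Limits AlgebraicGeometry TopologicalSpace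
open CubeConsLib (cl cl_eq_iff cl_tensor pull_cl pull_comp cl_eq_one_iff)

noncomputable section

namespace EtBcSurfLib

/-- A regular scheme closed in a projective space has a canonical sheaf compatible with flat regular base change. -/
theorem exists_canonical_baseChange {A B : Type u} [CommRing A] [IsDomain A] [IsRegularRing A] [CommRing B]
    [IsRegularRing B] (h : Spec (CommRingCat.of B) ⟶ Spec (CommRingCat.of A)) [Flat h]
    {X X' : Scheme.{u}} (f : X ⟶ Spec (CommRingCat.of A)) (f' : X' ⟶ Spec (CommRingCat.of B)) (π : X' ⟶ X)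
    (sq : IsPullback π f' f h) [IrreducibleSpace X] [IrreducibleSpace X'] {n : ℕ} (i : X ⟶ CohB1.ProjSpace n A)
    [IsClosedImmersion i] (hif : i ≫ CohB1.ProjSpace.toSpec n A = f)
    (hX : ∀ x : X, IsRegularLocalRing (X.presheaf.stalk x)) (hX' : ∀ x : X', IsRegularLocalRing (X'.presheaf.stalk x)) :
    ∃ ω : X.Modules, Canon.IsCanonical f ω ∧ Canon.IsCanonical f' ((Scheme.Modules.pullback π).obj ω) := by
  let g := CohB1.ProjSpace.toSpec n A
  haveI : SmoothOfRelativeDimension n g := OmegaPnLib.smoothRel_projSpace A n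
  haveI : Smooth g := SmoothOfRelativeDimension.smooth n g
  let Z' := pullback g h
  let m : Z' ⟶ CohB1.ProjSpace n A := pullback.fst g h
  let g' : Z' ⟶ Spec (CommRingCat.of B) := pullback.snd g h
  haveI := smoothOfRelativeDimension_isStableUnderBaseChange (n := n)
  haveI : SmoothOfRelativeDimension n g' :=
    MorphismProperty.of_isPullback (P := @SmoothOfRelativeDimension n) (IsPullback.of_hasPullback g h) inferInstance
  haveI : Smooth g' := SmoothOfRelativeDimension.smooth n g'
  haveI : Flat m := inferInstanceAs (Flat (pullback.fst g h))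
  haveI : IsLocallyNoetherian (CohB1.ProjSpace n A) := LocallyOfFiniteType.isLocallyNoetherian g
  haveI : IsLocallyNoetherian Z' := LocallyOfFiniteType.isLocallyNoetherian g'
  let i' : X' ⟶ Z' := pullback.lift (π ≫ i) f' (by rw [Category.assoc, hif, sq.w])
  have h1 : i' ≫ m = π ≫ i := pullback.lift_fst _ _ _
  have h2 : i' ≫ g' = f' := pullback.lift_snd _ _ _
  have sqi : IsPullback π i' i m := by
    refine IsPullback.of_bot ?_ h1.symm (IsPullback.of_hasPullback g h)
    rw [h2, hif]
    exact sq
  haveI : IsClosedImmersion i' := MorphismProperty.of_isPullback (P := @IsClosedImmersion) sqi inferInstance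
  haveI : IsLocallyNoetherian X := LocallyOfFiniteType.isLocallyNoetherian i
  haveI : IsLocallyNoetherian X' := LocallyOfFiniteType.isLocallyNoetherian i'
  obtain ⟨c, hc⟩ := RegConLib.exists_codim i (Groth.Agent.S8855.result i
    (fun p => RegConLib.regular_stalk_over g p) hX)
  obtain ⟨c', hc'⟩ := RegConLib.exists_codim i' (Groth.Agent.S8855.result i'
    (fun p => RegConLib.regular_stalk_over g' p) hX')
  obtain ⟨φ, hφ, -⟩ := Groth.Agent.S9371.result i' i m π h1.symm
  haveI : IsIso φ := (Groth.Agent.S9372.result i' i m π sqi.flip φ hφ).2 inferInstance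
  have hr := RegConLib.rank_conormal hc
  have hr' : FlatMod.IsFinLocFreeOfRank c (Omega.conormal i') :=
    SeesawLib.isFinLocFreeOfRank_of_iso (SeesawLib.isFinLocFreeOfRank_pullback π hr) (asIso φ).symm
  obtain rfl : c' = c := by
    obtain ⟨x⟩ : Nonempty X' := inferInstance
    obtain ⟨O, hxO, e⟩ := RegConLib.rank_conormal hc' x
    obtain ⟨O', hxO', e'⟩ := hr' x
    exact CohCmpLib.rank_unique _ hxO hxO' e e'
  obtain ⟨DP, hDP⟩ := ExtTopLib.exists_isExtPow (CohCmpLib.rank_omega g n)
  obtain ⟨DX, hDX⟩ := AdjFormLib.exists_det hc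
  obtain ⟨eD⟩ := MiscFlat6.nonempty_dualIso (CohCmpLib.isInvertible_of_isExtPow (RegConLib.rank_conormal hc) hDX)
  let ω : X.Modules := CohB1.tensorMod ((Scheme.Modules.pullback i).obj DP) (MiscFlat6.dual DX)
  have he : cl (CohB1.tensorMod ω DX) = cl ((Scheme.Modules.pullback i).obj DP) := by
    rw [cl_tensor, cl_tensor, mul_assoc, mul_comm (cl (MiscFlat6.dual DX)), ← cl_tensor DX, cl_eq_one_iff.2 ⟨eD⟩,
      mul_one]
  haveI : Coh.IsQCoh (Omega.conormal i) := (CurvLib.isCoh_of_locFree hr).1
  refine ⟨ω, ⟨_, i, g, c', n, hif, hc, inferInstance, inferInstance, inferInstance, DX, DP, hDX, hDP,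
    cl_eq_iff.1 he⟩, ⟨Z', i', g', c', n, h2, hc', inferInstance, inferInstance, inferInstance,
    (Scheme.Modules.pullback π).obj DX, (Scheme.Modules.pullback m).obj DP,
    ExtPowLib.isExtPow_of_iso_left (asIso φ) (ExtPowLib.isExtPow_pullback π hDX),
    Groth.Agent.S15539.result _ _ _ _ g g' m h (IsPullback.of_hasPullback g h) n DP hDP, cl_eq_iff.1 ?_⟩⟩
  rw [cl_tensor, ← pull_cl, ← pull_cl, ← map_mul, ← cl_tensor, he, ← pull_cl, ← pull_cl, ← pull_cl,
    pull_comp, pull_comp, h1]

end EtBcSurfLib

end
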