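import Groth.Agent.EtBcSurfLib.Etale
import Groth.Agent.CplFibreLib.Basic
import Groth.Agent.RelFlatLib.SmoothAmp
import Groth.Agent.S1597

/-!
# Arithmetic surfaces over a completed base
-/

set_option autoImplicit false
set_option linter.style.haveILetI false
set_option backward.isDefEq.respectTransparency false
set_option backward.isDefEq.respectTransparency.types false
set_option maxHeartbeats 1000000
universe u

open CategoryTheory CategoryTheory.Limits AlgebraicGeometry TopologicalSpace IsLocalRing

noncomputable section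

namespace EtBcSurfLib

variable {R R' : Type u} [CommRing R] [IsDomain R] [IsDiscreteValuationRing R] [CommRing R'] [IsDomain R']
  [IsDiscreteValuationRing R'] [Algebra R R'] (e : R' ≃ₐ[R] AdicCompletion (maximalIdeal R) R)

/-- The base map. -/
abbrev cplMap : Spec (CommRingCat.of R') ⟶ Spec (CommRingCat.of R) :=
  Spec.map (CommRingCat.ofHom (algebraMap R R'))

include e in
theorem completion_base :
    (maximalIdeal R).map (algebraMap R R') = maximalIdeal R' ∧
      Function.Surjective ((residue R').comp (algebraMap R R')) ∧ Flat (cplMap (R := R) (R' := R')) := by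
  obtain ⟨hloc, _, -, hmap, hsub⟩ := CohenLib.completion_facts R (maximalIdeal R) (maximalIdeal.isMaximal R).ne_top
  haveI := hloc
  have hce : (e.symm : AdicCompletion (maximalIdeal R) R →+* R').comp (algebraMap R _) = algebraMap R R' :=
    RingHom.ext fun r => e.symm.commutes r
  have hme : (maximalIdeal (AdicCompletion (maximalIdeal R) R)).map (e.symm : AdicCompletion (maximalIdeal R) R →+* R') =
      maximalIdeal R' := IsLocalRing.map_maximalIdeal_of_surjective _ e.symm.surjective
  refine ⟨?_, fun x => ?_, ?_⟩
  · rw [← hce, ← Ideal.map_map, hmap, hme]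
  · obtain ⟨s, rfl⟩ := residue_surjective x
    obtain ⟨a, ha⟩ := hsub (e s)
    refine ⟨a, ?_⟩
    show Ideal.Quotient.mk (maximalIdeal R') (algebraMap R R' a) = Ideal.Quotient.mk (maximalIdeal R') s
    rw [Ideal.Quotient.mk_eq_mk_iff_sub_mem, ← hme]
    have h := Ideal.mem_map_of_mem (e.symm : AdicCompletion (maximalIdeal R) R →+* R') ha
    rw [map_sub, show (e.symm : AdicCompletion (maximalIdeal R) R →+* R') (e s) = s from e.symm_apply_apply s,
      show (e.symm : AdicCompletion (maximalIdeal R) R →+* R') (algebraMap R _ a) = algebraMap R R' a from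
        e.symm.commutes a] at h
    have := neg_mem h
    rwa [neg_sub] at this
  · rw [HasRingHomProperty.Spec_iff (P := @Flat)]
    haveI : Module.Flat R (AdicCompletion (maximalIdeal R) R) := AdicCompletion.flat_of_isNoetherian _
    exact RingHom.flat_algebraMap_iff.2 (Module.Flat.of_linearEquiv e.toLinearEquiv)

include e in
/-- The isomorphism with the base change to the completion. -/
theorem exists_iso_bcCpl {X : Scheme.{u}} (f : X ⟶ Spec (CommRingCat.of R)) :
    ∃ θ : pullback f (cplMap (R := R) (R' := R')) ≅ Curv2.bcCpl R f,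
      θ.hom ≫ Curv2.bcCplFst R f = pullback.fst f (cplMap (R := R) (R' := R')) := by
  let ε : Spec (CommRingCat.of R') ≅ Spec (CommRingCat.of (Curv2.cpl R)) :=
    Scheme.Spec.mapIso e.toRingEquiv.toCommRingCatIso.symm.op
  have hε : ε.hom ≫ Spec.map (CommRingCat.ofHom (algebraMap R (Curv2.cpl R))) = cplMap (R := R) (R' := R') := by
    show Spec.map _ ≫ _ = _
    rw [← Spec.map_comp]
    exact congrArg Spec.map (CommRingCat.hom_ext (RingHom.ext fun r => e.symm.commutes r))
  let m := pullback.map f (cplMap (R := R) (R' := R')) f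
    (Spec.map (CommRingCat.ofHom (algebraMap R (Curv2.cpl R)))) (𝟙 _) ε.hom (𝟙 _) (by simp) (by rw [Category.comp_id, hε])
  haveI : IsIso m := inferInstanceAs (IsIso (pullback.map _ _ _ _ _ _ _ _ _))
  exact ⟨asIso m, (pullback.lift_fst _ _ _).trans (Category.comp_id _)⟩

include e in
theorem isArithSurface_cpl {X : Over (Spec (CommRingCat.of R))} (hX : ArSurf.IsArithSurface R X)
    [IsIntegral ((Over.pullback (cplMap (R := R) (R' := R'))).obj X).left] :
    ArSurf.IsArithSurface R' ((Over.pullback (cplMap (R := R) (R' := R'))).obj X) := by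
  obtain ⟨hreg, hint, hdim, hflat, n, i, hi, hiX⟩ := hX
  haveI := hint
  haveI := hflat
  obtain ⟨hmap, hsurj, hfl⟩ := completion_base (R := R) e
  haveI := hfl
  haveI : IsProper X.hom := RelMinExLib.isProper_of_proj ⟨n, i, hi, hiX⟩
  haveI := RelMinExLib.isNoetherian_of_proper X
  let X' := (Over.pullback (cplMap (R := R) (R' := R'))).obj X
  let π : X'.left ⟶ X.left := pullback.fst X.hom (cplMap (R := R) (R' := R'))
  haveI : Flat π := inferInstanceAs (Flat (pullback.fst X.hom cplMap))
  haveI : IsProper X'.hom := inferInstanceAs (IsProper (pullback.snd X.hom cplMap))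
  haveI : IsLocallyNoetherian X'.left := LocallyOfFiniteType.isLocallyNoetherian X'.hom
  obtain ⟨θ, hθ⟩ := exists_iso_bcCpl (R := R) e X.hom
  have hreg' : ∀ x : X'.left, IsRegularLocalRing (X'.left.presheaf.stalk x) := fun x => by
    haveI := (Groth.Agent.S1597.result R X.left X.hom).1 hreg (θ.hom x)
    exact IsRegularLocalRing.of_ringEquiv (asIso (θ.hom.stalkMap x)).commRingCatIsoToRingEquiv
  have hcp : cplMap (R := R) (R' := R') (closedPoint R') = closedPoint R :=
    PrimeSpectrum.ext (by
      show Ideal.comap (algebraMap R R') (maximalIdeal R') = maximalIdeal R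
      exact le_antisymm (le_maximalIdeal (Ideal.comap_ne_top _ (maximalIdeal.isMaximal R').ne_top))
        (Ideal.map_le_iff_le_comap.1 hmap.le))
  refine ⟨hreg', inferInstance, le_antisymm ?_ ?_, inferInstanceAs (Flat (pullback.snd X.hom cplMap)), ?_⟩
  · refine le_of_forall_lt fun c hc => ?_
    by_contra hlt
    rw [not_lt] at hlt
    have h3 : ((3 : ℕ) : WithBot ℕ∞) ≤ topologicalKrullDim X'.left := by
      revert hc hlt
      generalize topologicalKrullDim X'.left = d
      intro hc hlt
      have h4 : (2 : WithBot ℕ∞) < d := lt_of_le_of_lt hlt hc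
      rcases d with _ | _ | d
      · exact absurd h4 (not_lt.2 bot_le)
      · exact le_top
      · change ((2 : ℕ) : WithBot ℕ∞) < ((d : ℕ) : WithBot ℕ∞) at h4
        change ((3 : ℕ) : WithBot ℕ∞) ≤ ((d : ℕ) : WithBot ℕ∞)
        rw [Nat.cast_lt] at h4
        exact Nat.cast_le.2 h4
    obtain ⟨x, hx⟩ := DimIneqLib.exists_stalk_of_chain h3
    obtain ⟨y, hxy, hy⟩ : ∃ y, x ⤳ y ∧ X'.hom y = closedPoint R' := by
      have hc : IsClosed (X'.hom '' closure ({x} : Set X'.left)) := X'.hom.isClosedMap _ isClosed_closure
      obtain ⟨y, hy, hyP⟩ := (specializes_closedPoint (X'.hom x : PrimeSpectrum R')).mem_closed hc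
        ⟨x, subset_closure rfl, rfl⟩
      exact ⟨y, specializes_iff_mem_closure.2 hy, hyP⟩
    replace hx := hx.trans (Groth.Agent.RelFlatLib.ringKrullDim_stalk_le_of_specializes hxy)
    have hq : X.hom (π y) = closedPoint R := by
      rw [← Scheme.Hom.comp_apply, show π ≫ X.hom = X'.hom ≫ cplMap from pullback.condition,
        Scheme.Hom.comp_apply, hy, hcp]
    have hq' : X.hom (Curv2.bcCplFst R X.hom (θ.hom y)) = closedPoint R := by
      rw [show Curv2.bcCplFst R X.hom (θ.hom y) = π y from
        (Scheme.Hom.comp_apply θ.hom (Curv2.bcCplFst R X.hom) y).symm.trans (by rw [hθ]; rfl)]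
      exact hq
    obtain ⟨_, _, hm, -, -⟩ := CplFibreLib.congrPows_stalkMap R (IsNoetherian.noetherian _) X.hom (θ.hom y) hq'
    have hmπ : (maximalIdeal (X.left.presheaf.stalk (π y))).map (π.stalkMap y).hom =
        maximalIdeal (X'.left.presheaf.stalk y) := by
      have key : ∀ {W : X'.left ⟶ X.left}, W = π → (maximalIdeal (X.left.presheaf.stalk (W y))).map (W.stalkMap y).hom =
          maximalIdeal (X'.left.presheaf.stalk y) → (maximalIdeal (X.left.presheaf.stalk (π y))).map (π.stalkMap y).hom =
          maximalIdeal (X'.left.presheaf.stalk y) := fun h h' => by subst h; exact h'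
      refine key hθ ?_
      rw [Scheme.Hom.stalkMap_comp, CommRingCat.hom_comp, ← Ideal.map_map]
      erw [hm]
      exact IsLocalRing.map_maximalIdeal_of_surjective _ (ConcreteCategory.bijective_of_isIso (θ.hom.stalkMap y)).2
    letI := (π.stalkMap y).hom.toAlgebra
    haveI : Module.Flat (X.left.presheaf.stalk (π y)) (X'.left.presheaf.stalk y) :=
      RingHom.flat_algebraMap_iff.mp (Flat.stalkMap π y)
    haveI : IsLocalHom (algebraMap (X.left.presheaf.stalk (π y)) (X'.left.presheaf.stalk y)) :=
      inferInstanceAs (IsLocalHom (π.stalkMap y).hom)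
    haveI : (maximalIdeal (X'.left.presheaf.stalk y)).LiesOver (maximalIdeal (X.left.presheaf.stalk (π y))) :=
      ⟨(maximalIdeal_comap _).symm⟩
    haveI : Algebra.HasGoingDown (X.left.presheaf.stalk (π y)) (X'.left.presheaf.stalk y) :=
      Algebra.HasGoingDown.of_flat
    have h := Ideal.height_eq_height_add_of_liesOver_of_hasGoingDown (maximalIdeal (X.left.presheaf.stalk (π y)))
      (maximalIdeal (X'.left.presheaf.stalk y))
    rw [show (maximalIdeal (X.left.presheaf.stalk (π y))).map (algebraMap _ _) = _ from hmπ,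
      Ideal.map_quotient_self] at h
    haveI : Nontrivial (X'.left.presheaf.stalk y ⧸ maximalIdeal (X'.left.presheaf.stalk y)) :=
      Ideal.Quotient.nontrivial_iff.2 (maximalIdeal.isMaximal _).ne_top
    rw [show (⊥ : Ideal (X'.left.presheaf.stalk y ⧸ maximalIdeal (X'.left.presheaf.stalk y))).height = 0 from
      Ideal.height_bot, add_zero] at h
    rw [← IsLocalRing.maximalIdeal_height_eq_ringKrullDim, h, IsLocalRing.maximalIdeal_height_eq_ringKrullDim] at hx
    have := hx.trans ((DimIneqLib.stalk_dim_le_dim _).trans hdim.le)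
    rw [show (2 : WithBot ℕ∞) = ((2 : ℕ) : WithBot ℕ∞) from rfl, Nat.cast_le] at this
    omega
  · obtain ⟨x, hxη, hxne⟩ := RelMinExLib.exists_horizontal X hdim.ge
    obtain ⟨y, hxy, hy⟩ : ∃ y, x ⤳ y ∧ X.hom y = closedPoint R := by
      have hc : IsClosed (X.hom '' closure ({x} : Set X.left)) := X.hom.isClosedMap _ isClosed_closure
      obtain ⟨y, hy, hyP⟩ := (specializes_closedPoint (X.hom x : PrimeSpectrum R)).mem_closed hc
        ⟨x, subset_closure rfl, rfl⟩
      exact ⟨y, specializes_iff_mem_closure.2 hy, hyP⟩
    obtain ⟨y', hy'1, hy'2⟩ := Scheme.Pullback.exists_preimage_pullback (f := X.hom)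
      (g := cplMap (R := R) (R' := R')) y (closedPoint R') (hy.trans hcp.symm)
    obtain ⟨x', hx', hπx⟩ := Flat.generalizingMap π (show x ⤳ π y' from hy'1.symm ▸ hxy)
    have h1 : genericPoint X'.left ⤳ x' := (genericPoint_spec X'.left).specializes trivial
    have hxy' : x' ≠ y' := fun h => by
      have hne : closedPoint R ≠ RelMinSmLib.eta (R := R) := fun hh => VertIntLib.eta_ne_closedPoint hh.symm
      refine hne ?_
      rw [← hy, ← hy'1, show pullback.fst X.hom cplMap y' = π y' from rfl, ← h, hπx, hxη]
    have hne2 : genericPoint X'.left ≠ x' := fun h => by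
      refine hxne ((genericPoint_spec X.left).specializes trivial |>.antisymm ?_).eq.symm
      obtain ⟨g', hg', hπg⟩ := Flat.generalizingMap π
        (show genericPoint X.left ⤳ π (genericPoint X'.left) from (genericPoint_spec X.left).specializes trivial)
      have hgg : g' = genericPoint X'.left :=
        (hg'.antisymm ((genericPoint_spec X'.left).specializes trivial)).eq
      rw [hgg, h, hπx] at hπg
      rw [hπg]
    exact ProjModLib.two_le_dim (genericPoint X'.left) x' y' h1 hx' hne2 hxy'
      fun h => hxy' (hx'.antisymm (h ▸ h1)).eq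
  · haveI := hi
    let S' := Spec (CommRingCat.of R')
    let m := FGA.projMap n (cplMap (R := R) (R' := R'))
    have hm : IsPullback m (CohB1.ProjSpaceOver.toBase n S') (CohB1.ProjSpaceOver.toBase n (Spec (CommRingCat.of R)))
        (cplMap (R := R) (R' := R')) := by
      refine IsPullback.of_right ?_ (pullback.lift_snd _ _ _) (IsPullback.of_hasPullback _ _)
      rw [show m ≫ pullback.fst _ _ = pullback.fst _ _ from pullback.lift_fst _ _ _,
        specULiftZIsTerminal.hom_ext (cplMap (R := R) (R' := R') ≫ _) (specULiftZIsTerminal.from S')]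
      exact IsPullback.of_hasPullback _ _
    let i' := hm.lift (π ≫ i) (pullback.snd X.hom (cplMap (R := R) (R' := R')))
      (by rw [Category.assoc, hiX]; exact pullback.condition)
    have sq : IsPullback π i' i m := by
      refine IsPullback.of_bot ?_ (hm.lift_fst _ _ _).symm hm
      rw [hm.lift_snd, hiX]
      exact IsPullback.of_hasPullback _ _
    exact ⟨n, i', MorphismProperty.of_isPullback (P := @IsClosedImmersion) sq hi, hm.lift_snd _ _ _⟩

end EtBcSurfLib

end
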