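import Groth.Agent.GlobalContrLib.Generic

/-!
# Relative minimality is local on a Dedekind base
-/

set_option autoImplicit false
set_option linter.style.haveILetI false
set_option backward.isDefEq.respectTransparency false
set_option backward.isDefEq.respectTransparency.types false
set_option maxHeartbeats 1000000
universe u

open CategoryTheory CategoryTheory.Limits AlgebraicGeometry TopologicalSpace IsLocalRing
open GlobalContrLib

noncomputable section

namespace EtBcSurfLib

theorem isIso_stalk_congr {X Y : Scheme.{u}} {f g : X ⟶ Y} (h : f = g) (x : X) [IsIso (f.stalkMap x)] :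
    IsIso (g.stalkMap x) := by
  subst h
  infer_instance

/-- Base change of a morphism of `S`-schemes is its pullback along the projection. -/
theorem isPullback_map_left {S T : Scheme.{u}} (u : T ⟶ S) {X Y : Over S} (g : X ⟶ Y) :
    IsPullback (pullback.fst X.hom u) ((Over.pullback u).map g).left g.left (pullback.fst Y.hom u) := by
  refine IsPullback.of_bot ?_ (by simp) (IsPullback.of_hasPullback Y.hom u)
  rw [show ((Over.pullback u).map g).left ≫ pullback.snd Y.hom u = pullback.snd X.hom u by simp, Over.w g]
  exact IsPullback.of_hasPullback X.hom u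

variable {R : Type u} [CommRing R] [IsDedekindDomain R]

/-- An isomorphism on generic fibres stays one after localisation. -/
theorem isIso_generic_loc (q : Ideal R) [q.IsPrime] {X Y : Over (Spec (CommRingCat.of R))} (g : X ⟶ Y)
    [IsIso ((Neron.genericFibre R).map g)] :
    IsIso ((Neron.genericFibre (Localization.AtPrime q)).map ((Over.pullback (locMap q)).map g)) := by
  obtain ⟨σ, hσ⟩ := exists_fieldIso q
  let G := ((Neron.genericFibre (Localization.AtPrime q)).map ((Over.pullback (locMap q)).map g)).left
  have H := (isPullback_map_left (Neron.genPt (Localization.AtPrime q))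
    ((Over.pullback (locMap q)).map g)).paste_horiz (isPullback_map_left (locMap q) g)
  let l : ((Neron.genericFibre (Localization.AtPrime q)).obj (locX q Y)).left ⟶ pullback Y.hom (Neron.genPt R) :=
    pullback.lift (pullback.fst (locX q Y).hom (Neron.genPt _) ≫ locFst q Y)
      (pullback.snd (locX q Y).hom (Neron.genPt _) ≫ σ.hom) (by
        have h1 : pullback.fst (locX q Y).hom (Neron.genPt (Localization.AtPrime q)) ≫ pullback.snd Y.hom (locMap q) =
            pullback.snd (locX q Y).hom (Neron.genPt (Localization.AtPrime q)) ≫ Neron.genPt _ := pullback.condition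
        rw [Category.assoc, pullback.condition (f := Y.hom) (g := locMap q), Category.assoc, hσ, ← Category.assoc, h1,
          Category.assoc])
  have hl : l ≫ pullback.fst Y.hom (Neron.genPt R) =
      pullback.fst (locX q Y).hom (Neron.genPt _) ≫ locFst q Y := pullback.lift_fst _ _ _
  have B := isPullback_map_left (Neron.genPt R) g
  haveI : IsIso ((Neron.genericFibre R).map g).left :=
    inferInstanceAs (IsIso ((Over.forget _).map ((Neron.genericFibre R).map g)))
  let L := B.lift (pullback.fst (locX q X).hom (Neron.genPt _) ≫ locFst q X) (G ≫ l)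
    (by rw [Category.assoc G, hl]; exact H.w)
  have T : IsPullback L G ((Neron.genericFibre R).map g).left l := by
    refine IsPullback.of_right ?_ (B.lift_snd _ _ _) B
    rw [show L ≫ pullback.fst X.hom (Neron.genPt R) = _ from B.lift_fst _ _ _, hl]
    exact H
  haveI : IsIso G := T.isIso_snd_of_isIso
  haveI : IsIso ((Over.forget _).map ((Neron.genericFibre (Localization.AtPrime q)).map
      ((Over.pullback (locMap q)).map g))) := ‹IsIso G›
  exact isIso_of_reflects_iso _ (Over.forget _)

/-- Relative minimality can be checked after localising at the closed points of the base. -/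
theorem relMinimal_of_loc (hR : ¬ IsField R) {X : Over (Spec (CommRingCat.of R))} (hX : ArSurf.IsArithSurface R X)
    (hloc : ∀ (q : Ideal R) [q.IsPrime], q ≠ ⊥ →
      Neron.IsRelMinimalRegularModel (Localization.AtPrime q) (locX q X)) :
    Neron.IsRelMinimalRegularModel R X := by
  refine ⟨hX.1, hX.2.2.2.2, hX.2.2.2.1, fun Y hYreg hYproj hYflat g hg => ?_⟩
  haveI := hg
  haveI := hYflat
  haveI := RelMinExLib.isProper_of_proj (Y := X) hX.2.2.2.2
  haveI := RelMinExLib.isProper_of_proj (Y := Y) hYproj
  haveI : IsProper (g.left ≫ Y.hom) := by rw [Over.w g]; infer_instance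
  haveI : IsProper g.left := IsProper.of_comp g.left Y.hom
  have cover : ∀ s : Spec (CommRingCat.of R), ∃ q : Ideal R, ∃ _ : q.IsPrime, q ≠ ⊥ ∧
      (s : PrimeSpectrum R).asIdeal ≤ q := fun s => by
    obtain ⟨m, hm, hsm⟩ := Ideal.exists_le_maximal _ (s : PrimeSpectrum R).isPrime.ne_top
    exact ⟨m, hm.isPrime, Ring.ne_bot_of_isMaximal_of_not_isField hm hR, hsm⟩
  have key : ∀ (q : Ideal R) [q.IsPrime], q ≠ ⊥ → IsIso ((Over.pullback (locMap q)).map g).left := fun q _ hq => by
    haveI := isIso_generic_loc q g
    haveI : Flat (locFst q Y) := inferInstanceAs (Flat (pullback.fst Y.hom (locMap q)))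
    haveI : IsPreimmersion (locFst q Y) := inferInstanceAs (IsPreimmersion (pullback.fst Y.hom (locMap q)))
    haveI : IsNoetherianRing R := inferInstance
    haveI := RelMinExLib.isNoetherian_of_proper Y
    haveI := (hloc q hq).2.2.2 (locX q Y) (fun y => by
        haveI := AffContLib.isIso_stalkMap_of_flat_preimmersion (locFst q Y) y
        haveI := hYreg (locFst q Y y)
        exact IsRegularLocalRing.of_ringEquiv (asIso ((locFst q Y).stalkMap y)).commRingCatIsoToRingEquiv)
      (isProjectiveOver_loc hYproj) (inferInstanceAs (Flat (pullback.snd Y.hom (locMap q))))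
      ((Over.pullback (locMap q)).map g) inferInstance
    exact inferInstanceAs (IsIso ((Over.forget _).map ((Over.pullback (locMap q)).map g)))
  have hbase : ∀ a : X.left, Y.hom (g.left a) = X.hom a := fun a => by rw [← Scheme.Hom.comp_apply, Over.w g]
  have hinj : Function.Injective g.left := fun a b hab => by
    obtain ⟨q, _, hq, hsq⟩ := cover (X.hom a)
    haveI := key q hq
    obtain ⟨a', rfl⟩ := mem_range_locFst hq (X := X) hsq
    obtain ⟨b', rfl⟩ := mem_range_locFst hq (X := X) (x := b) (by rw [← hbase b, ← hab, hbase]; exact hsq)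
    have w := (isPullback_map_left (locMap q) g).w
    haveI : IsPreimmersion (locFst q Y) := inferInstanceAs (IsPreimmersion (pullback.fst Y.hom (locMap q)))
    refine congrArg _ (((Over.pullback (locMap q)).map g).left.homeomorph.injective
      ((locFst q Y).isEmbedding.injective ?_))
    show (((Over.pullback (locMap q)).map g).left ≫ locFst q Y) a' = (((Over.pullback (locMap q)).map g).left ≫ locFst q Y) b'
    rw [← w]
    exact hab
  have hsurj : Function.Surjective g.left := fun y => by
    obtain ⟨q, _, hq, hsq⟩ := cover (Y.hom y)
    haveI := key q hq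
    obtain ⟨y', rfl⟩ := mem_range_locFst hq (X := Y) hsq
    obtain ⟨x', rfl⟩ := ((Over.pullback (locMap q)).map g).left.homeomorph.surjective y'
    refine ⟨locFst q X x', ?_⟩
    have w := (isPullback_map_left (locMap q) g).w
    exact congrArg (fun (φ : (locX q X).left ⟶ Y.left) => φ x') w
  have hemb : Topology.IsOpenEmbedding g.left :=
    (Homeomorph.isOpenEmbedding (Equiv.toHomeomorphOfContinuousClosed (Equiv.ofBijective g.left ⟨hinj, hsurj⟩)
      g.left.continuous g.left.isClosedMap) :)
  haveI : ∀ x : X.left, IsIso (g.left.stalkMap x) := fun x => by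
    obtain ⟨q, _, hq, hsq⟩ := cover (X.hom x)
    haveI := key q hq
    haveI := RelMinExLib.isNoetherian_of_proper X
    haveI := RelMinExLib.isNoetherian_of_proper Y
    obtain ⟨x', rfl⟩ := mem_range_locFst hq (X := X) hsq
    haveI : Flat (locFst q X) := inferInstanceAs (Flat (pullback.fst X.hom (locMap q)))
    haveI : IsPreimmersion (locFst q X) := inferInstanceAs (IsPreimmersion (pullback.fst X.hom (locMap q)))
    haveI : Flat (locFst q Y) := inferInstanceAs (Flat (pullback.fst Y.hom (locMap q)))
    haveI : IsPreimmersion (locFst q Y) := inferInstanceAs (IsPreimmersion (pullback.fst Y.hom (locMap q)))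
    haveI := AffContLib.isIso_stalkMap_of_flat_preimmersion (locFst q X) x'
    haveI := AffContLib.isIso_stalkMap_of_flat_preimmersion (locFst q Y)
      (((Over.pullback (locMap q)).map g).left x')
    haveI : IsIso ((((Over.pullback (locMap q)).map g).left ≫ locFst q Y).stalkMap x') := by
      rw [Scheme.Hom.stalkMap_comp]; infer_instance
    have hc : IsIso ((locFst q X ≫ g.left).stalkMap x') := isIso_stalk_congr (isPullback_map_left (locMap q) g).w.symm x'
    rw [Scheme.Hom.stalkMap_comp] at hc
    exact IsIso.of_isIso_comp_right _ ((locFst q X).stalkMap x')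
  haveI := IsOpenImmersion.of_isIso_stalkMap g.left hemb
  haveI : Surjective g.left := ⟨hsurj⟩
  haveI : IsIso g.left := (isIso_iff_isOpenImmersion_and_surjective g.left).2 ⟨inferInstance, inferInstance⟩
  haveI : IsIso ((Over.forget _).map g) := ‹IsIso g.left›
  exact isIso_of_reflects_iso g (Over.forget _)

end EtBcSurfLib

end
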