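import Groth.Agent.VertChiLib.CompExists
import Groth.Agent.VertIntLib.Degree
import Groth.Agent.ConnCompLib.Sign
import Groth.Agent.AbSchLib.DimFinite
import Groth.Agent.S7640

/-!
# Nef bundles stay nef after a finite extension of the residue field
-/

set_option autoImplicit false
set_option linter.style.haveILetI false
set_option backward.isDefEq.respectTransparency false
set_option backward.isDefEq.respectTransparency.types false
set_option maxHeartbeats 1000000
universe u

open CategoryTheory CategoryTheory.Limits AlgebraicGeometry TopologicalSpace IsLocalRing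

noncomputable section

namespace EtBcSurfLib

variable {A : Type u} [CommRing A] [IsDomain A] [IsDiscreteValuationRing A]

/-- A morphism from a reduced scheme factors through a closed immersion containing its image. -/
theorem exists_lift_reduced {C D X : Scheme.{u}} [IsReduced C] (ι : D ⟶ X) [IsClosedImmersion ι] (ψ : C ⟶ X)
    (h : ∀ c, ψ c ∈ Set.range ι) : ∃ φ : C ⟶ D, φ ≫ ι = ψ := by
  have hk : ι.ker ≤ ψ.ker := by
    rw [show ψ.ker = (⊥ : C.IdealSheafData).map ψ by
        rw [← Scheme.Hom.ker_eq_bot_of_isIso (𝟙 C), ← Scheme.Hom.ker_comp, Category.id_comp],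
      Scheme.IdealSheafData.le_map_iff_comap_le, ← Scheme.nilradical_eq_bot (X := C),
      ← Scheme.IdealSheafData.vanishingIdeal_top, ← Scheme.IdealSheafData.le_support_iff_le_vanishingIdeal]
    intro c _
    rw [Scheme.IdealSheafData.support_comap]
    show ψ c ∈ ι.ker.support
    rw [← SetLike.mem_coe, Scheme.Hom.support_ker]
    exact subset_closure (h c)
  exact ⟨IsClosedImmersion.lift ι ψ hk, IsClosedImmersion.lift_fac ι ψ hk⟩

/-- The residue field map of a morphism taking the closed point to the closed point. -/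
theorem exists_residue_factor {K : Type u} [Field K] (t : Spec (CommRingCat.of K) ⟶ Spec (CommRingCat.of A))
    [IsFinite t] :
    ∃ σ : ResidueField A →+* K, Spec.map (CommRingCat.ofHom σ) ≫ Spec.map (CommRingCat.ofHom (residue A)) = t ∧
      (letI := σ.toAlgebra; Module.Finite (ResidueField A) K) := by
  obtain ⟨φ, rfl⟩ : ∃ φ : A →+* K, Spec.map (CommRingCat.ofHom φ) = t :=
    ⟨(Spec.preimage t).hom, by rw [CommRingCat.ofHom_hom, Spec.map_preimage]⟩
  have hφ : φ.Finite := (IsFinite.SpecMap_iff _).1 ‹IsFinite (Spec.map (CommRingCat.ofHom φ))›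
  have hm : (RingHom.ker φ).IsMaximal := by
    letI := φ.toAlgebra
    haveI : Module.Finite A K := hφ
    haveI : Algebra.IsIntegral A K := Algebra.IsIntegral.of_finite A K
    have h := Ideal.isMaximal_comap_of_isIntegral_of_isMaximal (R := A) (⊥ : Ideal K)
    rwa [← RingHom.ker_eq_comap_bot] at h
  have hk : maximalIdeal A = RingHom.ker φ := (eq_maximalIdeal hm).symm
  refine ⟨Ideal.Quotient.lift (maximalIdeal A) φ fun a ha => (hk.le ha), ?_, ?_⟩
  · rw [← Spec.map_comp, ← CommRingCat.ofHom_comp]
    rfl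
  · exact RingHom.Finite.of_comp_finite (f := residue A) (g := Ideal.Quotient.lift (maximalIdeal A) φ fun a ha => (hk.le ha))
      (show (RingHom.comp _ (residue A)).Finite from hφ)

variable {B : Type u} [CommRing B] [IsDomain B] [IsDiscreteValuationRing B]

/-- Nefness pulls back along a base change with finite residue extension. -/
theorem inter_pullback_nonneg {h : Spec (CommRingCat.of B) ⟶ Spec (CommRingCat.of A)}
    [IsFinite (Spec.map (CommRingCat.ofHom (residue B)) ≫ h)]
    {X : Over (Spec (CommRingCat.of A))} [IsIntegral X.left] [Flat X.hom] [IsProper X.hom]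
    {X' : Over (Spec (CommRingCat.of B))} (π : X'.left ⟶ X.left) (sq : IsPullback π X'.hom X.hom h)
    (L : X.left.Modules) (hL : PicF.IsInvertible L) (hnef : ∀ C : ArSurf.VertComp A X, 0 ≤ ArSurf.inter A X L C)
    (C' : ArSurf.VertComp B X') : 0 ≤ ArSurf.inter B X' ((Scheme.Modules.pullback π).obj L) C' := by
  haveI : IsProper X'.hom := MorphismProperty.of_isPullback (P := @IsProper) sq inferInstance
  let t := Spec.map (CommRingCat.ofHom (residue B)) ≫ h
  haveI : IsFinite t := inferInstanceAs (IsFinite (Spec.map (CommRingCat.ofHom (residue B)) ≫ h))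
  let ψ := C'.ι ≫ π
  have hw : ψ ≫ X.hom = C'.curve.hom ≫ t := by
    show (C'.ι ≫ π) ≫ X.hom = _
    rw [Category.assoc, sq.w, ← Category.assoc, C'.w, Category.assoc]
  let l : C'.curve.left ⟶ pullback X.hom t := pullback.lift ψ C'.curve.hom hw
  let m : pullback X.hom t ⟶ X'.left := sq.lift (pullback.fst X.hom t)
    (pullback.snd X.hom t ≫ Spec.map (CommRingCat.ofHom (residue B))) (by rw [pullback.condition, Category.assoc])
  have hlm : l ≫ m = C'.ι := by
    apply sq.hom_ext
    · rw [Category.assoc, sq.lift_fst, pullback.lift_fst]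
    · rw [Category.assoc, sq.lift_snd, pullback.lift_snd_assoc, C'.w]
  haveI : IsSeparated (m ≫ X'.hom) := by rw [sq.lift_snd]; infer_instance
  haveI : IsSeparated m := IsSeparated.of_comp m X'.hom
  haveI : IsClosedImmersion (l ≫ m) := by rw [hlm]; infer_instance
  haveI : IsClosedImmersion l := IsClosedImmersion.of_comp l m
  haveI : IsFinite ψ := by
    rw [show ψ = l ≫ pullback.fst X.hom t from (pullback.lift_fst _ _ _).symm]
    infer_instance
  let z := ψ (genericPoint C'.curve.left)
  have hrange : Set.range ψ = closure ({z} : Set X.left) := by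
    have h1 : IsClosed (Set.range ψ) := ψ.isClosedMap.isClosed_range
    refine le_antisymm ?_ (closure_minimal (Set.singleton_subset_iff.2 ⟨_, rfl⟩) h1)
    rintro x ⟨c, rfl⟩
    exact specializes_iff_mem_closure.1 (((genericPoint_spec C'.curve.left).specializes trivial).map ψ.continuous)
  obtain ⟨σ, hσ, hσfin⟩ := exists_residue_factor t
  have hz : X.hom z = closedPoint A := by
    show (ψ ≫ X.hom) _ = _
    rw [hw, ← hσ, ← Category.assoc, Scheme.Hom.comp_apply]
    exact IsLocalRing.comap_closedPoint (residue A) ▸ congrArg _ (Subsingleton.elim _ _)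
  let Z : Closeds X.left := ⟨closure {z}, isClosed_closure⟩
  let J := Scheme.IdealSheafData.vanishingIdeal Z
  have hd : topologicalKrullDim (closure ({z} : Set X.left)) = 1 := by
    haveI : IsReduced J.subscheme := DevissLib.isReduced_vanishingIdeal' Z
    have hJ : Set.range J.subschemeι = closure ({z} : Set X.left) :=
      J.range_subschemeι.trans (by rw [Scheme.IdealSheafData.coe_support_vanishingIdeal]; rfl)
    obtain ⟨φ, hφ⟩ := exists_lift_reduced J.subschemeι ψ fun c => hJ.ge (hrange.le ⟨c, rfl⟩)
    haveI : IsFinite (φ ≫ J.subschemeι) := by rw [hφ]; infer_instance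
    haveI : IsFinite φ := IsFinite.of_comp φ J.subschemeι
    haveI : Surjective φ := ⟨fun y => by
      obtain ⟨c, hc⟩ := hrange.ge (hJ.le ⟨y, rfl⟩)
      exact ⟨c, J.subschemeι.isEmbedding.injective (by rw [← Scheme.Hom.comp_apply, hφ]; exact hc)⟩⟩
    rw [← hJ, ← J.subschemeι.isEmbedding.toHomeomorph.isHomeomorph.topologicalKrullDim_eq,
      ← AbSchLib.topologicalKrullDim_eq_of_finite_surjective φ, C'.dim_eq]
  obtain ⟨Γ, hΓ⟩ := VertChiLib.exists_vertComp_of_dim hz hd
  obtain ⟨φ, hφ⟩ := exists_lift_reduced Γ.ι ψ fun c => hΓ.ge (hrange.le ⟨c, rfl⟩)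
  let k := ResidueField A
  letI iC : C'.curve.left.Over (Spec (CommRingCat.of k)) := ⟨C'.curve.hom ≫ Spec.map (CommRingCat.ofHom σ)⟩
  haveI := VertIntLib.isProper_curve C'
  haveI := VertIntLib.isProper_curve Γ
  haveI : IsFinite (Spec.map (CommRingCat.ofHom σ)) := (IsFinite.SpecMap_iff _).2 hσfin
  haveI : IsProper C'.curve.hom := inferInstanceAs (IsProper (C'.curve.left ↘ Spec (CommRingCat.of (ResidueField B))))
  haveI : IsProper (C'.curve.left ↘ Spec (CommRingCat.of k)) :=
    inferInstanceAs (IsProper (C'.curve.hom ≫ Spec.map (CommRingCat.ofHom σ)))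
  have hφk : φ ≫ (Γ.curve.left ↘ Spec (CommRingCat.of k)) = C'.curve.left ↘ Spec (CommRingCat.of k) := by
    haveI : IsClosedImmersion (Spec.map (CommRingCat.ofHom (residue A))) :=
      IsClosedImmersion.spec_of_surjective _ residue_surjective
    rw [← cancel_mono (Spec.map (CommRingCat.ofHom (residue A)))]
    show (φ ≫ Γ.curve.hom) ≫ _ = (C'.curve.hom ≫ _) ≫ _
    rw [Category.assoc, Category.assoc, ← Γ.w, ← Category.assoc, hφ, hw, hσ]
  haveI : IsFinite (φ ≫ Γ.ι) := by rw [hφ]; infer_instance
  haveI : IsFinite φ := IsFinite.of_comp φ Γ.ι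
  have hξ : φ (genericPoint C'.curve.left) = genericPoint Γ.curve.left := by
    apply Γ.ι.isEmbedding.injective
    rw [← Scheme.Hom.comp_apply, hφ]
    obtain ⟨y, hy⟩ := hΓ.ge (subset_closure (Set.mem_singleton z))
    refine (Specializes.antisymm ?_ ?_).eq
    swap
    · show Γ.ι (genericPoint Γ.curve.left) ⤳ z
      rw [← hy]
      exact ((genericPoint_spec Γ.curve.left).specializes trivial).map Γ.ι.continuous
    exact specializes_iff_mem_closure.2 (hΓ.le ⟨_, rfl⟩)
  have hLΓ : PicF.IsInvertible ((Scheme.Modules.pullback Γ.ι).obj L) := AmpleDevLib.isInvertible_pb _ hL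
  have key := Groth.Agent.S7640.result k C'.curve.left Γ.curve.left C'.dim_eq Γ.dim_eq φ hφk hξ 1
    ((Scheme.Modules.pullback Γ.ι).obj L) (CurvLib.locFree_of_isInvertible hLΓ)
  have hpos : 0 ≤ Curv2.deg k C'.curve.left ((Scheme.Modules.pullback φ).obj ((Scheme.Modules.pullback Γ.ι).obj L)) 1 := by
    rw [key, ← VertIntLib.inter_eq_deg]
    exact mul_nonneg (Int.natCast_nonneg _) (hnef Γ)
  obtain ⟨e⟩ : Nonempty ((Scheme.Modules.pullback φ).obj ((Scheme.Modules.pullback Γ.ι).obj L) ≅
      (Scheme.Modules.pullback C'.ι).obj ((Scheme.Modules.pullback π).obj L)) :=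
    ⟨(Scheme.Modules.pullbackComp φ Γ.ι).app L ≪≫ (Scheme.Modules.pullbackCongr hφ).app L ≪≫
      ((Scheme.Modules.pullbackComp C'.ι π).app L).symm⟩
  rw [VertIntLib.inter_eq_deg]
  rw [Curv2.deg, CurvLib.euler_congr (k := k) e, ConnCompLib.euler_tower k (ResidueField B) C'.curve.hom σ rfl,
    ConnCompLib.euler_tower k (ResidueField B) C'.curve.hom σ rfl, mul_left_comm, ← mul_sub] at hpos
  refine nonneg_of_mul_nonneg_right hpos ?_
  letI := σ.toAlgebra
  haveI : Module.Finite k (ResidueField B) := hσfin
  exact_mod_cast Module.finrank_pos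

end EtBcSurfLib

end
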