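import Groth.Agent.EtBcSurfLib.Canon
import Groth.Agent.EtBcSurfLib.Nef
import Groth.Agent.EtBcSurfLib.Global
import Groth.Agent.GlobalContrLib.Euler
import Groth.Agent.BlowUpLib.RegBlow
import Groth.Agent.AlgSpLib.TrdegInv
import Groth.Agent.DimIneqLib.Dim
import Groth.Agent.S13321

/-!
# Étale base change of relatively minimal surfaces
-/

set_option autoImplicit false
set_option linter.style.haveILetI false
set_option backward.isDefEq.respectTransparency false
set_option backward.isDefEq.respectTransparency.types false
set_option maxHeartbeats 1000000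
universe u

open CategoryTheory CategoryTheory.Limits AlgebraicGeometry TopologicalSpace IsLocalRing
open GlobalContrLib

noncomputable section

namespace EtBcSurfLib

variable {R R' : Type u} [CommRing R] [IsDedekindDomain R] [CommRing R'] [IsDedekindDomain R']
  [Algebra R R'] [Algebra.Etale R R']

/-- The base change map. -/
abbrev bcMap : Spec (CommRingCat.of R') ⟶ Spec (CommRingCat.of R) :=
  Spec.map (CommRingCat.ofHom (algebraMap R R'))

variable (hsurj : Function.Surjective (PrimeSpectrum.comap (algebraMap R R')))

include hsurj in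
theorem injective_of_surj : Function.Injective (algebraMap R R') := by
  obtain ⟨P, hP⟩ := hsurj ⟨⊥, Ideal.isPrime_bot⟩
  refine (injective_iff_map_eq_zero _).2 fun r hr => ?_
  have h1 : r ∈ (PrimeSpectrum.comap (algebraMap R R') P).asIdeal := by
    show algebraMap R R' r ∈ P.asIdeal
    rw [hr]; exact zero_mem _
  rw [hP] at h1
  exact (Submodule.mem_bot R).1 h1

include hsurj in
theorem isArithSurface_bc {X : Over (Spec (CommRingCat.of R))} (hX : ArSurf.IsArithSurface R X)
    [IsIntegral ((Over.pullback (bcMap (R := R) (R' := R'))).obj X).left] :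
    ArSurf.IsArithSurface R' ((Over.pullback (bcMap (R := R) (R' := R'))).obj X) := by
  obtain ⟨hreg, hint, hdim, hflat, n, i, hi, hiX⟩ := hX
  haveI := hflat
  haveI : IsProper X.hom := RelMinExLib.isProper_of_proj ⟨n, i, hi, hiX⟩
  haveI := RelMinExLib.isNoetherian_of_proper X
  haveI : Etale (bcMap (R := R) (R' := R')) := by
    rw [HasRingHomProperty.Spec_iff (P := @Etale)]
    exact RingHom.etale_algebraMap.2 ‹_›
  haveI : Surjective (bcMap (R := R) (R' := R')) := ⟨hsurj⟩
  let π := pullback.fst X.hom (bcMap (R := R) (R' := R'))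
  haveI : Etale π := inferInstanceAs (Etale (pullback.fst X.hom bcMap))
  haveI : Surjective π := inferInstanceAs (Surjective (pullback.fst X.hom bcMap))
  refine ⟨fun x => ?_, inferInstance, ?_, inferInstanceAs (Flat (pullback.snd X.hom bcMap)), ?_⟩
  · haveI := hreg (π x)
    exact BlowUpLib.isRegularLocalRing_stalk_of_smooth π x
  · have h2 : ((2 : ℕ) : WithBot ℕ∞) = 2 := rfl
    refine le_antisymm ?_ ?_
    · refine le_of_forall_lt fun c hc => ?_
      by_contra hlt
      rw [not_lt] at hlt
      have h3 : ((3 : ℕ) : WithBot ℕ∞) ≤ topologicalKrullDim ((Over.pullback (bcMap (R := R) (R' := R'))).obj X).left := by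
        revert hc hlt
        generalize topologicalKrullDim ((Over.pullback (bcMap (R := R) (R' := R'))).obj X).left = d
        intro hc hlt
        have h4 : (2 : WithBot ℕ∞) < d := lt_of_le_of_lt hlt hc
        rcases d with _ | _ | d
        · exact absurd h4 (not_lt.2 bot_le)
        · exact le_top
        · change ((2 : ℕ) : WithBot ℕ∞) < ((d : ℕ) : WithBot ℕ∞) at h4
          change ((3 : ℕ) : WithBot ℕ∞) ≤ ((d : ℕ) : WithBot ℕ∞)
          rw [Nat.cast_lt] at h4
          exact Nat.cast_le.2 h4
      obtain ⟨x, hx⟩ := DimIneqLib.exists_stalk_of_chain h3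
      replace hx := hx.trans (le_of_eq (AlgSpLib.ringKrullDim_stalk_etale π x))
      have := hx.trans ((DimIneqLib.stalk_dim_le_dim _).trans hdim.le)
      rw [← h2, Nat.cast_le] at this
      omega
    · obtain ⟨x, hx⟩ := DimIneqLib.exists_stalk_of_chain (X := X.left) (n := 2) (by rw [hdim, h2])
      obtain ⟨x', rfl⟩ := π.surjective x
      rw [← h2]
      exact hx.trans ((AlgSpLib.ringKrullDim_stalk_etale π x').ge.trans (DimIneqLib.stalk_dim_le_dim x'))
  · haveI := hi
    let S' := Spec (CommRingCat.of R')
    let m := FGA.projMap n (bcMap (R := R) (R' := R'))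
    have hm : IsPullback m (CohB1.ProjSpaceOver.toBase n S') (CohB1.ProjSpaceOver.toBase n (Spec (CommRingCat.of R)))
        (bcMap (R := R) (R' := R')) := by
      refine IsPullback.of_right ?_ (pullback.lift_snd _ _ _) (IsPullback.of_hasPullback _ _)
      rw [show m ≫ pullback.fst _ _ = pullback.fst _ _ from pullback.lift_fst _ _ _,
        specULiftZIsTerminal.hom_ext (bcMap (R := R) (R' := R') ≫ _) (specULiftZIsTerminal.from S')]
      exact IsPullback.of_hasPullback _ _
    let i' := hm.lift (π ≫ i) (pullback.snd X.hom (bcMap (R := R) (R' := R')))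
      (by rw [Category.assoc, hiX]; exact pullback.condition)
    have sq : IsPullback π i' i m := by
      refine IsPullback.of_bot ?_ (hm.lift_fst _ _ _).symm hm
      rw [hm.lift_snd, hiX]
      exact IsPullback.of_hasPullback _ _
    exact ⟨n, i', MorphismProperty.of_isPullback (P := @IsClosedImmersion) sq hi, hm.lift_snd _ _ _⟩

/-- A composite with a monomorphism is flat only if the first map is. -/
theorem flat_of_comp_mono {A B C : Scheme.{u}} (h : A ⟶ B) (m : B ⟶ C) [Mono m] [Flat (h ≫ m)] : Flat h := by
  let l : A ⟶ pullback (h ≫ m) m := pullback.lift (𝟙 A) h (by simp)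
  haveI : IsIso l := ⟨pullback.fst _ _, pullback.lift_fst _ _ _, by
    have h1 : pullback.fst (h ≫ m) m ≫ h = pullback.snd (h ≫ m) m := by
      rw [← cancel_mono m, Category.assoc, pullback.condition]
    apply pullback.hom_ext
    · rw [Category.assoc, pullback.lift_fst, Category.comp_id, Category.id_comp]
    · rw [Category.assoc, pullback.lift_snd, Category.id_comp, h1]⟩
  rw [show h = l ≫ pullback.snd (h ≫ m) m from (pullback.lift_snd _ _ _).symm]
  infer_instance

theorem generic_point_eq {A B C : Type u} [CommRing A] [IsDomain A] [CommRing B] [CommRing C] [IsDomain C] (f : A →+* B)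
    (g : B →+* C) (hf : Function.Injective f) (hg : Function.Injective g) :
    (Neron.genPt C ≫ Spec.map (CommRingCat.ofHom g) ≫ Spec.map (CommRingCat.ofHom f))
      (closedPoint (FractionRing C)) = Neron.genPt A (closedPoint (FractionRing A)) := by
  rw [← Spec.map_comp, ← Spec.map_comp]
  refine PrimeSpectrum.ext ?_
  show Ideal.comap _ (maximalIdeal _) = Ideal.comap _ (maximalIdeal _)
  rw [maximalIdeal_eq_bot, maximalIdeal_eq_bot]
  refine (Ideal.comap_bot_of_injective _ ?_).trans (Ideal.comap_bot_of_injective _ ?_).symm
  · simpa using ((IsFractionRing.injective C (FractionRing C)).comp hg).comp hf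
  · exact IsFractionRing.injective A (FractionRing A)

theorem finite_residue (q : Ideal R') [q.IsPrime] (p : Ideal R) [p.IsMaximal] [q.LiesOver p] :
    IsFinite (Spec.map (CommRingCat.ofHom (residue (Localization.AtPrime q))) ≫ locMap q ≫
      bcMap (R := R) (R' := R')) := by
  rw [← Spec.map_comp, ← Spec.map_comp, IsFinite.SpecMap_iff]
  haveI : Module.Finite R p.ResidueField :=
    Module.Finite.of_surjective (Algebra.linearMap R p.ResidueField) fun x => by
      obtain ⟨y, hy⟩ := p.bijective_algebraMap_quotient_residueField.2 x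
      obtain ⟨r, rfl⟩ := Ideal.Quotient.mk_surjective y
      exact ⟨r, hy⟩
  letI := Localization.AtPrime.algebraOfLiesOver p q
  haveI : Module.Finite R q.ResidueField := Module.Finite.trans p.ResidueField q.ResidueField
  have h : (algebraMap R q.ResidueField).Finite := RingHom.finite_algebraMap.2 ‹_›
  exact h

include hsurj in
/-- Relative minimality persists at each closed point of the new base. -/
theorem relMinimal_loc {X : Over (Spec (CommRingCat.of R))} (hX : ArSurf.IsArithSurface R X)
    (hmin : Neron.IsRelMinimalRegularModel R X)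
    (hχ : FGA.eulerCharLE (FractionRing R) ((Neron.genericFibre R).obj X).left (Coh.structureModule _) 1 ≤ 0)
    [IsIntegral ((Over.pullback (bcMap (R := R) (R' := R'))).obj X).left] (q : Ideal R') [q.IsPrime] (hq : q ≠ ⊥) :
    Neron.IsRelMinimalRegularModel (Localization.AtPrime q)
      (locX q ((Over.pullback (bcMap (R := R) (R' := R'))).obj X)) := by
  let X' := (Over.pullback (bcMap (R := R) (R' := R'))).obj X
  let p := q.comap (algebraMap R R')
  haveI : q.LiesOver p := ⟨rfl⟩
  have hp : p ≠ ⊥ := fun h => hq (by
    refine ((Algebra.QuasiFinite.eq_of_le_of_under_eq (R := R) ⊥ q bot_le) ?_).symm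
    have hb : (⊥ : Ideal R').comap (algebraMap R R') = ⊥ :=
      Ideal.comap_bot_of_injective _ (injective_of_surj hsurj)
    exact hb.trans h.symm)
  haveI hpm : p.IsMaximal := Ideal.IsPrime.isMaximal inferInstance hp
  haveI := isDVR_loc hp
  haveI := isDVR_loc hq
  have hX' := isArithSurface_bc hsurj hX
  have hXp := isArithSurface_loc hp hX
  have hXq := isArithSurface_loc hq hX'
  haveI := hX.2.2.2.1
  haveI := hXp.2.1
  haveI := hXp.2.2.2.1
  haveI := hXq.2.1
  haveI := hXq.2.2.2.1
  haveI : IsProper X.hom := RelMinExLib.isProper_of_proj hX.2.2.2.2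
  haveI : IsProper (locX p X).hom := inferInstanceAs (IsProper (pullback.snd X.hom (locMap p)))
  haveI : IsProper X'.hom := inferInstanceAs (IsProper (pullback.snd X.hom bcMap))
  haveI : IsProper (locX q X').hom := inferInstanceAs (IsProper (pullback.snd X'.hom (locMap q)))
  let h : Spec (CommRingCat.of (Localization.AtPrime q)) ⟶ Spec (CommRingCat.of (Localization.AtPrime p)) :=
    Spec.map (CommRingCat.ofHom (Localization.localRingHom p q (algebraMap R R') rfl))
  have hh : h ≫ locMap p = locMap q ≫ bcMap (R := R) (R' := R') := by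
    rw [← Spec.map_comp, ← Spec.map_comp]
    exact congrArg Spec.map (CommRingCat.hom_ext (RingHom.ext fun r => Localization.localRingHom_to_map p q (algebraMap R R') rfl r))
  haveI : Etale (bcMap (R := R) (R' := R')) := by
    rw [HasRingHomProperty.Spec_iff (P := @Etale)]
    exact RingHom.etale_algebraMap.2 ‹_›
  haveI : Flat (h ≫ locMap p) := by rw [hh]; infer_instance
  haveI : Flat h := flat_of_comp_mono h (locMap p)
  haveI : IsFinite (Spec.map (CommRingCat.ofHom (residue (Localization.AtPrime q))) ≫ h) := by
    haveI : IsFinite ((Spec.map (CommRingCat.ofHom (residue (Localization.AtPrime q))) ≫ h) ≫ locMap p) := by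
      rw [Category.assoc, hh]; exact finite_residue q p
    exact IsFinite.of_comp _ (locMap p)
  let π : (locX q X').left ⟶ (locX p X).left :=
    pullback.lift (locFst q X' ≫ pullback.fst X.hom (bcMap (R := R) (R' := R')))
      (pullback.snd X'.hom (locMap q) ≫ h) (by
        rw [Category.assoc, pullback.condition (f := X.hom), ← Category.assoc,
          show pullback.fst X'.hom (locMap q) ≫ pullback.snd X.hom (bcMap (R := R) (R' := R')) =
            pullback.snd X'.hom (locMap q) ≫ locMap q from pullback.condition, Category.assoc, Category.assoc, hh])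
  have sq : IsPullback π (locX q X').hom (locX p X).hom h := by
    refine IsPullback.of_right ?_ (pullback.lift_snd _ _ _) (IsPullback.of_hasPullback X.hom (locMap p))
    rw [show π ≫ pullback.fst X.hom (locMap p) = _ from pullback.lift_fst _ _ _, hh]
    exact (IsPullback.of_hasPullback X'.hom (locMap q)).paste_horiz (IsPullback.of_hasPullback X.hom _)
  obtain ⟨n, i₀, hi₀, hi₀X⟩ := hXp.2.2.2.2
  obtain ⟨θ, hθ⟩ := LichtLib.exists_iso_over n (Localization.AtPrime p)
  haveI := hi₀
  have hiX : (i₀ ≫ θ.inv) ≫ CohB1.ProjSpace.toSpec n (Localization.AtPrime p) = (locX p X).hom := by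
    rw [← hθ, Category.assoc, Iso.inv_hom_id_assoc, hi₀X]
  obtain ⟨ω, hω, hω'⟩ := exists_canonical_baseChange h (locX p X).hom (locX q X').hom π sq (i₀ ≫ θ.inv) hiX
    hXp.1 hXq.1
  have hminp : Neron.IsRelMinimalRegularModel (Localization.AtPrime p) (locX p X) :=
    MinModLib.relMinimal_of_no_exc hXp fun D => no_exc_loc hp hX hmin D.ι
  have hnef := (Groth.Agent.S13321.result _ (locX p X) hXp (euler_loc hp hX hχ) ω hω).1 hminp
  haveI : IsLocallyNoetherian (locX p X).left := LocallyOfFiniteType.isLocallyNoetherian (locX p X).hom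
  have hωi : PicF.IsInvertible ω := RegConLib.isInvertible_of_isCanonical hω
  refine (Groth.Agent.S13321.result _ (locX q X') hXq ?_ _ hω').2
    fun C => inter_pullback_nonneg π sq ω hωi hnef C
  have hdim := ContractLib.dim_genericFibre (X := locX q X') hXq.2.2.1
  have hR : ¬ IsField R := Ring.not_isField_iff_exists_ideal_bot_lt_and_lt_top.2
    ⟨p, bot_lt_iff_ne_bot.2 hp, lt_top_iff_ne_top.2 (Ideal.IsPrime.ne_top inferInstance)⟩
  letI : (pullback X.hom (Neron.genPt R)).Over (Spec (CommRingCat.of (FractionRing R))) :=
    ⟨((Neron.genericFibre R).obj X).hom⟩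
  haveI : IsProper ((pullback X.hom (Neron.genPt R)) ↘ Spec (CommRingCat.of (FractionRing R))) :=
    inferInstanceAs (IsProper (pullback.snd X.hom (Neron.genPt R)))
  letI : (pullback (locX q X').hom (Neron.genPt (Localization.AtPrime q))).Over
      (Spec (CommRingCat.of (FractionRing (Localization.AtPrime q)))) :=
    ⟨((Neron.genericFibre (Localization.AtPrime q)).obj (locX q X')).hom⟩
  haveI : IsProper ((pullback (locX q X').hom (Neron.genPt (Localization.AtPrime q))) ↘
      Spec (CommRingCat.of (FractionRing (Localization.AtPrime q)))) :=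
    inferInstanceAs (IsProper (pullback.snd (locX q X').hom (Neron.genPt (Localization.AtPrime q))))
  have e1 := euler_fibre (IsPullback.of_hasPullback X.hom (Neron.genPt R))
  have e2 := euler_fibre (X := X) ((IsPullback.of_hasPullback (locX q X').hom
    (Neron.genPt (Localization.AtPrime q))).paste_horiz
      ((IsPullback.of_hasPullback X'.hom (locMap q)).paste_horiz (IsPullback.of_hasPullback X.hom _)))
  have hv : (Neron.genPt (Localization.AtPrime q) ≫ locMap q ≫ bcMap (R := R) (R' := R'))
      (closedPoint (FractionRing (Localization.AtPrime q))) = Neron.genPt R (closedPoint (FractionRing R)) := by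
    exact generic_point_eq _ _ (injective_of_surj hsurj)
      (IsLocalization.injective (Localization.AtPrime q) q.primeCompl_le_nonZeroDivisors)
  change FGA.eulerCharLE (FractionRing R) (pullback X.hom (Neron.genPt R)) (Coh.structureModule _) 1 ≤ 0 at hχ
  show FGA.eulerCharLE _ (pullback (locX q X').hom (Neron.genPt (Localization.AtPrime q))) (Coh.structureModule _) 1 ≤ 0
  rw [HilbPolyLib.eulerCharLE_eq (k := FractionRing (Localization.AtPrime q)) hdim.le]
  rw [HilbPolyLib.eulerCharLE_eq (k := FractionRing R) (dim_generic_le hX hR)] at hχ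
  refine le_of_eq_of_le ?_ hχ
  exact e2.trans ((congrArg _ hv).trans e1.symm)

include hsurj in
/-- Étale surjective base change preserves relative minimality in positive genus. -/
theorem relMinimal_bc {X : Over (Spec (CommRingCat.of R))} (hX : ArSurf.IsArithSurface R X)
    (hmin : Neron.IsRelMinimalRegularModel R X)
    (hχ : FGA.eulerCharLE (FractionRing R) ((Neron.genericFibre R).obj X).left (Coh.structureModule _) 1 ≤ 0)
    [IsIntegral ((Over.pullback (bcMap (R := R) (R' := R'))).obj X).left] :
    Neron.IsRelMinimalRegularModel R' ((Over.pullback (bcMap (R := R) (R' := R'))).obj X) := by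
  have hX' := isArithSurface_bc hsurj hX
  by_cases hR' : IsField R'
  · refine ⟨hX'.1, hX'.2.2.2.2, hX'.2.2.2.1, fun Y _ _ _ g hg => ?_⟩
    haveI := hg
    haveI : IsIso (Neron.genPt R') := by
      letI := hR'.toField
      haveI : IsIso (CommRingCat.ofHom (algebraMap R' (FractionRing R'))) :=
        (ConcreteCategory.isIso_iff_bijective _).2 ⟨IsFractionRing.injective _ _,
          fun x => by
            obtain ⟨a, b, -, hab⟩ := IsFractionRing.div_surjective R' x
            exact ⟨a / b, (map_div₀ (algebraMap R' (FractionRing R')) a b).trans hab⟩⟩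
      exact inferInstanceAs (IsIso (Spec.map _))
    have w := (isPullback_map_left (Neron.genPt R') g).w
    haveI : IsIso ((Neron.genericFibre R').map g).left :=
      inferInstanceAs (IsIso ((Over.forget _).map ((Neron.genericFibre R').map g)))
    haveI : IsIso (pullback.fst ((Over.pullback (bcMap (R := R) (R' := R'))).obj X).hom (Neron.genPt R') ≫ g.left) := by
      rw [w]; infer_instance
    haveI : IsIso g.left := IsIso.of_isIso_comp_left
      (pullback.fst ((Over.pullback (bcMap (R := R) (R' := R'))).obj X).hom (Neron.genPt R')) g.left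
    haveI : IsIso ((Over.forget _).map g) := ‹IsIso g.left›
    exact isIso_of_reflects_iso g (Over.forget _)
  · exact relMinimal_of_loc hR' hX' fun q _ hq => relMinimal_loc hsurj hX hmin hχ q hq

end EtBcSurfLib

end
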